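import Groth.Agent.Dcoh.DerPull2

/-!
# Coherence of the derived pullbacks

`lc f g h e : Lh^* ≅ Lg^* ⋙ Lf^*` for `f ≫ g = h`; its value on complexes (`lc_fac`) and associativity (`lc_assoc`).
-/

set_option autoImplicit false

universe u

open CategoryTheory CategoryTheory.Limits AlgebraicGeometry Pretriangulated

attribute [local instance] HasDerivedCategory.standard

namespace Groth.Agent.Fixpt.H906.LPC

open Groth.Agent.Dcoh.DerPull Groth.Agent.Dcoh.DerComp

variable {W X Y Z : Scheme.{u}}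

/-- `f^*` on complexes. -/
noncomputable abbrev pc (f : X ⟶ Y) : CochainComplex Y.Modules ℤ ⥤ CochainComplex X.Modules ℤ :=
  (Scheme.Modules.pullback f).mapHomologicalComplex (ComplexShape.up ℤ)

/-- Composition of pullbacks, on complexes. -/
noncomputable def cxComp (f : X ⟶ Y) (g : Y ⟶ Z) : pc g ⋙ pc f ≅ pc (f ≫ g) :=
  Functor.mapHomologicalComplexCompIso (Scheme.Modules.pullbackComp f g) (ComplexShape.up ℤ)

theorem compIso_fac (f : X ⟶ Y) (g : Y ⟶ Z) [DCoh.HasLpull f] [DCoh.HasLpull g] [DCoh.HasLpull (f ≫ g)]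
    (K : CochainComplex Z.Modules ℤ) :
    (lpullCompIso f g).inv.app (DerivedCategory.Q.obj K) ≫
      (DCoh.Lpull f).map ((lpullCounitQ g).app K) ≫ (lpullCounitQ f).app ((pc g).obj K) ≫
        DerivedCategory.Q.map ((cxComp f g).hom.app K) = (lpullCounitQ (f ≫ g)).app K := by
  have h := lpullCompIso_fac f g ((HomotopyCategory.quotient _ _).obj K)
  let aZ : DerivedCategory.Q.obj K ⟶ DerivedCategory.Qh.obj ((HomotopyCategory.quotient _ _).obj K) :=
    (DerivedCategory.quotientCompQhIso Z.Modules).inv.app K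
  let bY : DerivedCategory.Qh.obj ((HomotopyCategory.quotient _ _).obj ((pc g).obj K)) ⟶
    DerivedCategory.Q.obj ((pc g).obj K) := (DerivedCategory.quotientCompQhIso Y.Modules).hom.app ((pc g).obj K)
  let aY : DerivedCategory.Q.obj ((pc g).obj K) ⟶
    DerivedCategory.Qh.obj ((HomotopyCategory.quotient _ _).obj ((pc g).obj K)) :=
      (DerivedCategory.quotientCompQhIso Y.Modules).inv.app ((pc g).obj K)
  have hba : bY ≫ aY = 𝟙 _ := (DerivedCategory.quotientCompQhIso Y.Modules).hom_inv_id_app ((pc g).obj K)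
  let bX : DerivedCategory.Qh.obj ((HomotopyCategory.quotient _ _).obj ((pc (f ≫ g)).obj K)) ⟶
    DerivedCategory.Q.obj ((pc (f ≫ g)).obj K) :=
      (DerivedCategory.quotientCompQhIso X.Modules).hom.app ((pc (f ≫ g)).obj K)
  let bX' : DerivedCategory.Qh.obj ((HomotopyCategory.quotient _ _).obj ((pc f).obj ((pc g).obj K))) ⟶
    DerivedCategory.Q.obj ((pc f).obj ((pc g).obj K)) :=
      (DerivedCategory.quotientCompQhIso X.Modules).hom.app ((pc f).obj ((pc g).obj K))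
  let cZ : (DCoh.Lpull g).obj (DerivedCategory.Qh.obj ((HomotopyCategory.quotient _ _).obj K)) ⟶
    DerivedCategory.Qh.obj ((HomotopyCategory.quotient _ _).obj ((pc g).obj K)) :=
      (lpullCounit g).app ((HomotopyCategory.quotient _ _).obj K)
  let cY : (DCoh.Lpull f).obj (DerivedCategory.Qh.obj ((HomotopyCategory.quotient _ _).obj ((pc g).obj K))) ⟶
    DerivedCategory.Qh.obj ((HomotopyCategory.quotient _ _).obj ((pc f).obj ((pc g).obj K))) :=
      (lpullCounit f).app ((HomotopyCategory.quotient _ _).obj ((pc g).obj K))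
  let cX : (DCoh.Lpull (f ≫ g)).obj (DerivedCategory.Qh.obj ((HomotopyCategory.quotient _ _).obj K)) ⟶
    DerivedCategory.Qh.obj ((HomotopyCategory.quotient _ _).obj ((pc (f ≫ g)).obj K)) :=
      (lpullCounit (f ≫ g)).app ((HomotopyCategory.quotient _ _).obj K)
  let m : DerivedCategory.Qh.obj ((HomotopyCategory.quotient _ _).obj ((pc f).obj ((pc g).obj K))) ⟶
      DerivedCategory.Qh.obj ((HomotopyCategory.quotient _ _).obj ((pc (f ≫ g)).obj K)) :=
    DerivedCategory.Qh.map ((HomotopyCategory.quotient _ _).map ((cxComp f g).hom.app K))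
  have h1 : (lpullCounitQ (f ≫ g)).app K = (DCoh.Lpull (f ≫ g)).map aZ ≫ cX ≫ bX := counitQ_app _ _ _ K
  have h2 : (lpullCounitQ g).app K = (DCoh.Lpull g).map aZ ≫ cZ ≫ bY := counitQ_app _ _ _ K
  have h3 : (lpullCounitQ f).app ((pc g).obj K) = (DCoh.Lpull f).map aY ≫ cY ≫ bX' :=
    counitQ_app _ _ _ ((pc g).obj K)
  have h' : (lpullCompIso f g).inv.app (DerivedCategory.Qh.obj ((HomotopyCategory.quotient _ _).obj K)) ≫
      (DCoh.Lpull f).map cZ ≫ cY ≫ m = cX := h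
  have h5 : (DCoh.Lpull (f ≫ g)).map aZ ≫
      (lpullCompIso f g).inv.app (DerivedCategory.Qh.obj ((HomotopyCategory.quotient _ _).obj K)) =
      (lpullCompIso f g).inv.app (DerivedCategory.Q.obj K) ≫ (DCoh.Lpull f).map ((DCoh.Lpull g).map aZ) :=
    (lpullCompIso f g).inv.naturality aZ
  have h6 : m ≫ bX = bX' ≫ DerivedCategory.Q.map ((cxComp f g).hom.app K) :=
    (DerivedCategory.quotientCompQhIso X.Modules).hom.naturality ((cxComp f g).hom.app K)
  have h7 : (DCoh.Lpull f).map bY ≫ (DCoh.Lpull f).map aY = 𝟙 _ := by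
    rw [← CategoryTheory.Functor.map_comp, hba, CategoryTheory.Functor.map_id]
  have h8 : (DCoh.Lpull f).map ((lpullCounitQ g).app K) =
      (DCoh.Lpull f).map ((DCoh.Lpull g).map aZ) ≫ (DCoh.Lpull f).map cZ ≫ (DCoh.Lpull f).map bY := by
    rw [← CategoryTheory.Functor.map_comp, ← CategoryTheory.Functor.map_comp]
    exact congrArg _ h2
  calc _ = (lpullCompIso f g).inv.app (DerivedCategory.Q.obj K) ≫
        ((DCoh.Lpull f).map ((DCoh.Lpull g).map aZ) ≫ (DCoh.Lpull f).map cZ ≫ (DCoh.Lpull f).map bY) ≫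
          ((DCoh.Lpull f).map aY ≫ cY ≫ bX') ≫ DerivedCategory.Q.map ((cxComp f g).hom.app K) :=
        congrArg₂ (fun s t => (lpullCompIso f g).inv.app (DerivedCategory.Q.obj K) ≫ s ≫ t ≫
          DerivedCategory.Q.map ((cxComp f g).hom.app K)) h8 h3
    _ = (DCoh.Lpull (f ≫ g)).map aZ ≫ cX ≫ bX := by
        simp only [Category.assoc]
        rw [← reassoc_of% h5, reassoc_of% h7, ← h6, ← h']
        simp only [Category.assoc]
    _ = _ := h1.symm

/-- The counit `Lf^*(Q K) ⟶ Q(f^* K)`. -/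
noncomputable def cn (f : X ⟶ Y) [DCoh.HasLpull f] (K : CochainComplex Y.Modules ℤ) :
    (DCoh.Lpull f).obj (DerivedCategory.Q.obj K) ⟶ DerivedCategory.Q.obj ((pc f).obj K) :=
  (lpullCounitQ f).app K

@[reassoc]
theorem cn_nat (f : X ⟶ Y) [DCoh.HasLpull f] {K L : CochainComplex Y.Modules ℤ} (φ : K ⟶ L) :
    (DCoh.Lpull f).map (DerivedCategory.Q.map φ) ≫ cn f L = cn f K ≫ DerivedCategory.Q.map ((pc f).map φ) :=
  (lpullCounitQ f).naturality φ

theorem isIso_cn (f : X ⟶ Y) [DCoh.HasLpull f] (K : CochainComplex Y.Modules ℤ) (hK : DCoh.IsKFlat K) :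
    IsIso (cn f K) :=
  isIso_lpullCounitQ_app f K hK

/-- Composition of pullbacks, underived. -/
noncomputable def uc (f : X ⟶ Y) (g : Y ⟶ Z) (h : X ⟶ Z) (e : f ≫ g = h) :
    Scheme.Modules.pullback h ≅ Scheme.Modules.pullback g ⋙ Scheme.Modules.pullback f :=
  Scheme.Modules.pullbackCongr e.symm ≪≫ (Scheme.Modules.pullbackComp f g).symm

theorem uc_rfl (f : X ⟶ Y) (g : Y ⟶ Z) : uc f g (f ≫ g) rfl = (Scheme.Modules.pullbackComp f g).symm := by
  ext M
  simp [uc, Scheme.Modules.pullbackCongr]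

/-- Associativity of the composition of pullbacks, underived. -/
theorem uc_assoc (a : W ⟶ X) (b : X ⟶ Y) (c : Y ⟶ Z) (ab : W ⟶ Y) (bc : X ⟶ Z) (abc : W ⟶ Z)
    (e₁ : a ≫ b = ab) (e₂ : b ≫ c = bc) (e₃ : ab ≫ c = abc) (e₄ : a ≫ bc = abc) (M : Z.Modules) :
    (uc ab c abc e₃).hom.app M ≫ (uc a b ab e₁).hom.app ((Scheme.Modules.pullback c).obj M) =
      (uc a bc abc e₄).hom.app M ≫ (Scheme.Modules.pullback a).map ((uc b c bc e₂).hom.app M) := by
  subst e₁ e₂ e₃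
  rw [uc_rfl, uc_rfl, uc_rfl]
  have h1 := congrArg (fun t => t.app M) (Scheme.Modules.pseudofunctor_associativity a b c)
  simp only [NatTrans.comp_app, Functor.whiskerRight_app, Functor.associator_hom_app, Functor.whiskerLeft_app,
    Category.id_comp] at h1
  have h3 : (Scheme.Modules.pullbackCongr e₄).hom.app M = _ := h1.symm
  have h4 : (uc a (b ≫ c) ((a ≫ b) ≫ c) e₄).hom.app M =
      (Scheme.Modules.pullbackCongr e₄.symm).hom.app M ≫ (Scheme.Modules.pullbackComp a (b ≫ c)).inv.app M := rfl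
  have h5 : (Scheme.Modules.pullbackCongr e₄.symm).hom.app M ≫ (Scheme.Modules.pullbackCongr e₄).hom.app M = 𝟙 _ := by
    simp [Scheme.Modules.pullbackCongr]
  rw [h4]
  rw [h3] at h5
  rw [← cancel_mono ((Scheme.Modules.pullbackComp a b).hom.app ((Scheme.Modules.pullback c).obj M)),
    ← cancel_mono ((Scheme.Modules.pullbackComp (a ≫ b) c).hom.app M)]
  simp only [Category.assoc, Iso.symm_hom, Iso.inv_hom_id_app]
  refine Eq.trans ?_ h5.symm
  exact (congrArg (fun t => (Scheme.Modules.pullbackComp (a ≫ b) c).inv.app M ≫ t) (Category.id_comp _)).trans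
    ((Scheme.Modules.pullbackComp (a ≫ b) c).inv_hom_id_app M)

/-- Composition of pullbacks on complexes. -/
noncomputable def ucC (f : X ⟶ Y) (g : Y ⟶ Z) (h : X ⟶ Z) (e : f ≫ g = h) (K : CochainComplex Z.Modules ℤ) :
    (pc h).obj K ≅ (pc f).obj ((pc g).obj K) :=
  HomologicalComplex.Hom.isoOfComponents (fun i => (uc f g h e).app (K.X i)) (fun i j _ => by
    exact ((uc f g h e).hom.naturality (K.d i j)).symm)

theorem ucC_f (f : X ⟶ Y) (g : Y ⟶ Z) (h : X ⟶ Z) (e : f ≫ g = h) (K : CochainComplex Z.Modules ℤ) (i : ℤ) :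
    (ucC f g h e K).hom.f i = (uc f g h e).hom.app (K.X i) := rfl

theorem ucC_assoc (a : W ⟶ X) (b : X ⟶ Y) (c : Y ⟶ Z) (ab : W ⟶ Y) (bc : X ⟶ Z) (abc : W ⟶ Z)
    (e₁ : a ≫ b = ab) (e₂ : b ≫ c = bc) (e₃ : ab ≫ c = abc) (e₄ : a ≫ bc = abc) (K : CochainComplex Z.Modules ℤ) :
    (ucC ab c abc e₃ K).hom ≫ (ucC a b ab e₁ ((pc c).obj K)).hom =
      (ucC a bc abc e₄ K).hom ≫ (pc a).map (ucC b c bc e₂ K).hom := by
  ext i : 1
  exact uc_assoc a b c ab bc abc e₁ e₂ e₃ e₄ (K.X i)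

/-- `Lh^* ≅ Lg^* ⋙ Lf^*` for `f ≫ g = h`. -/
noncomputable def lc (f : X ⟶ Y) (g : Y ⟶ Z) (h : X ⟶ Z) (e : f ≫ g = h)
    [DCoh.HasLpull f] [DCoh.HasLpull g] [DCoh.HasLpull h] :
    DCoh.Lpull h ≅ DCoh.Lpull g ⋙ DCoh.Lpull f :=
  haveI : DCoh.HasLpull (f ≫ g) := e ▸ ‹DCoh.HasLpull h›
  lpullCongr e.symm ≪≫ (lpullCompIso f g).symm

theorem lc_rfl (f : X ⟶ Y) (g : Y ⟶ Z) [DCoh.HasLpull f] [DCoh.HasLpull g] [DCoh.HasLpull (f ≫ g)] :
    lc f g (f ≫ g) rfl = (lpullCompIso f g).symm := by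
  ext E
  simp [lc, lpullCongr]

@[reassoc]
theorem lc_fac (f : X ⟶ Y) (g : Y ⟶ Z) (h : X ⟶ Z) (e : f ≫ g = h)
    [DCoh.HasLpull f] [DCoh.HasLpull g] [DCoh.HasLpull h] (K : CochainComplex Z.Modules ℤ) :
    (lc f g h e).hom.app (DerivedCategory.Q.obj K) ≫ (DCoh.Lpull f).map (cn g K) ≫ cn f ((pc g).obj K) =
      cn h K ≫ DerivedCategory.Q.map (ucC f g h e K).hom := by
  subst e
  rw [lc_rfl]
  have h1 := compIso_fac f g K
  have h2 : (cxComp f g).hom.app K ≫ (ucC f g (f ≫ g) rfl K).hom = 𝟙 ((pc f).obj ((pc g).obj K)) := by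
    ext i : 1
    rw [HomologicalComplex.comp_f, ucC_f, uc_rfl]
    exact (Scheme.Modules.pullbackComp f g).hom_inv_id_app (K.X i)
  have h3 : cn (f ≫ g) K = _ := h1.symm
  have h4 : DerivedCategory.Q.map ((cxComp f g).hom.app K) ≫
      DerivedCategory.Q.map (ucC f g (f ≫ g) rfl K).hom = 𝟙 (DerivedCategory.Q.obj ((pc f).obj ((pc g).obj K))) :=
    (DerivedCategory.Q.map_comp _ _).symm.trans ((congrArg _ h2).trans (DerivedCategory.Q.map_id _))
  rw [h3, Category.assoc, Category.assoc, Category.assoc]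
  refine Eq.trans ?_ (congrArg (fun t => (lpullCompIso f g).inv.app (DerivedCategory.Q.obj K) ≫
      (DCoh.Lpull f).map ((lpullCounitQ g).app K) ≫ (lpullCounitQ f).app ((pc g).obj K) ≫ t) h4.symm)
  exact congrArg (fun t => (lpullCompIso f g).inv.app (DerivedCategory.Q.obj K) ≫
      (DCoh.Lpull f).map ((lpullCounitQ g).app K) ≫ t) (Category.comp_id _).symm

/-- Associativity of the composition of derived pullbacks. -/
@[reassoc]
theorem lc_assoc (a : W ⟶ X) (b : X ⟶ Y) (c : Y ⟶ Z) (ab : W ⟶ Y) (bc : X ⟶ Z) (abc : W ⟶ Z)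
    (e₁ : a ≫ b = ab) (e₂ : b ≫ c = bc) (e₃ : ab ≫ c = abc) (e₄ : a ≫ bc = abc)
    [DCoh.HasLpull a] [DCoh.HasLpull b] [DCoh.HasLpull c] [DCoh.HasLpull ab] [DCoh.HasLpull bc]
    [DCoh.HasLpull abc] (E : DCoh.D Z) :
    (lc ab c abc e₃).hom.app E ≫ (lc a b ab e₁).hom.app ((DCoh.Lpull c).obj E) =
      (lc a bc abc e₄).hom.app E ≫ (DCoh.Lpull a).map ((lc b c bc e₂).hom.app E) := by
  -- reduce to `E = Q K` with `K` K-flat
  obtain ⟨K₀, ⟨e₀⟩⟩ : ∃ K : CochainComplex Z.Modules ℤ, Nonempty (DerivedCategory.Q.obj K ≅ E) :=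
    ⟨_, ⟨DerivedCategory.Q.objObjPreimageIso E⟩⟩
  obtain ⟨K, q, hK, hq⟩ := Groth.Agent.Dcoh.KFlatInput.exists_kflat K₀
  have : IsIso (DerivedCategory.Q.map q) := inferInstance
  let e : DerivedCategory.Q.obj K ≅ E := asIso (DerivedCategory.Q.map q) ≪≫ e₀
  have key : (lc ab c abc e₃).hom.app (DerivedCategory.Q.obj K) ≫
      (lc a b ab e₁).hom.app ((DCoh.Lpull c).obj (DerivedCategory.Q.obj K)) =
      (lc a bc abc e₄).hom.app (DerivedCategory.Q.obj K) ≫
        (DCoh.Lpull a).map ((lc b c bc e₂).hom.app (DerivedCategory.Q.obj K)) := by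
    have i1 : IsIso (cn c K) := isIso_cn c K hK
    have i2 : IsIso (cn b ((pc c).obj K)) := isIso_cn b _ (Groth.Agent.Dcoh.KFlatInput.isKFlat_pullback c K hK)
    have i3 : IsIso (cn a ((pc b).obj ((pc c).obj K))) := isIso_cn a _
      (Groth.Agent.Dcoh.KFlatInput.isKFlat_pullback b _ (Groth.Agent.Dcoh.KFlatInput.isKFlat_pullback c K hK))
    have i4 : IsIso ((DCoh.Lpull a).map ((DCoh.Lpull b).map (cn c K)) ≫
        (DCoh.Lpull a).map (cn b ((pc c).obj K)) ≫ cn a ((pc b).obj ((pc c).obj K))) := inferInstance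
    rw [← cancel_mono ((DCoh.Lpull a).map ((DCoh.Lpull b).map (cn c K)) ≫
        (DCoh.Lpull a).map (cn b ((pc c).obj K)) ≫ cn a ((pc b).obj ((pc c).obj K)))]
    have n1 : (lc a b ab e₁).hom.app ((DCoh.Lpull c).obj (DerivedCategory.Q.obj K)) ≫
        (DCoh.Lpull a).map ((DCoh.Lpull b).map (cn c K)) =
        (DCoh.Lpull ab).map (cn c K) ≫ (lc a b ab e₁).hom.app (DerivedCategory.Q.obj ((pc c).obj K)) :=
      ((lc a b ab e₁).hom.naturality (cn c K)).symm
    have n2 : (DCoh.Lpull a).map ((lc b c bc e₂).hom.app (DerivedCategory.Q.obj K)) ≫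
        (DCoh.Lpull a).map ((DCoh.Lpull b).map (cn c K)) ≫ (DCoh.Lpull a).map (cn b ((pc c).obj K)) =
        (DCoh.Lpull a).map (cn bc K) ≫ (DCoh.Lpull a).map (DerivedCategory.Q.map (ucC b c bc e₂ K).hom) := by
      rw [← CategoryTheory.Functor.map_comp, ← CategoryTheory.Functor.map_comp, ← CategoryTheory.Functor.map_comp,
        lc_fac]
    rw [Category.assoc, Category.assoc, reassoc_of% n1, reassoc_of% n2, lc_fac, cn_nat, lc_fac_assoc, lc_fac_assoc,
      ← CategoryTheory.Functor.map_comp, ← CategoryTheory.Functor.map_comp, ucC_assoc a b c ab bc abc e₁ e₂ e₃ e₄ K]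
  have m1 : (DCoh.Lpull abc).map e.hom ≫ (lc ab c abc e₃).hom.app E =
      (lc ab c abc e₃).hom.app (DerivedCategory.Q.obj K) ≫ (DCoh.Lpull ab).map ((DCoh.Lpull c).map e.hom) :=
    (lc ab c abc e₃).hom.naturality e.hom
  have m2 : (DCoh.Lpull ab).map ((DCoh.Lpull c).map e.hom) ≫ (lc a b ab e₁).hom.app ((DCoh.Lpull c).obj E) =
      (lc a b ab e₁).hom.app ((DCoh.Lpull c).obj (DerivedCategory.Q.obj K)) ≫
        (DCoh.Lpull a).map ((DCoh.Lpull b).map ((DCoh.Lpull c).map e.hom)) :=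
    (lc a b ab e₁).hom.naturality ((DCoh.Lpull c).map e.hom)
  have m3 : (DCoh.Lpull abc).map e.hom ≫ (lc a bc abc e₄).hom.app E =
      (lc a bc abc e₄).hom.app (DerivedCategory.Q.obj K) ≫ (DCoh.Lpull a).map ((DCoh.Lpull bc).map e.hom) :=
    (lc a bc abc e₄).hom.naturality e.hom
  have m4 : (DCoh.Lpull bc).map e.hom ≫ (lc b c bc e₂).hom.app E =
      (lc b c bc e₂).hom.app (DerivedCategory.Q.obj K) ≫ (DCoh.Lpull b).map ((DCoh.Lpull c).map e.hom) :=
    (lc b c bc e₂).hom.naturality e.hom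
  rw [← cancel_epi ((DCoh.Lpull abc).map e.hom), reassoc_of% m1, m2, reassoc_of% m3,
    ← CategoryTheory.Functor.map_comp, m4, CategoryTheory.Functor.map_comp, reassoc_of% key]

end Groth.Agent.Fixpt.H906.LPC
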